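import Groth.Agent.Pic13.H138.Glue2

/-!
# The Picard group of a disjoint union of open subschemes

* `eq_one_of_pull`, `eq_of_pull`: a class is determined by its restrictions to pairwise disjoint open subschemes which
  cover.
-/

set_option autoImplicit false
universe u

open CategoryTheory CategoryTheory.Limits AlgebraicGeometry TopologicalSpace

namespace Groth.Agent.Pic13.H953.PicDisj

open Groth.Agent.Fdesc.LocGen Groth.Agent.Grpsch.PicGrp

variable {Y : Scheme.{u}} {ι : Type*} {V : ι → Scheme.{u}} (j : ∀ i, V i ⟶ Y) [∀ i, IsOpenImmersion (j i)]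

/-- A class which is trivial on pairwise disjoint open subschemes covering `Y` is trivial. -/
theorem eq_one_of_pull (hd : ∀ i k, i ≠ k → Disjoint (Set.range (j i).base) (Set.range (j k).base))
    (hc : ∀ y : Y, ∃ i, y ∈ Set.range (j i).base) (d : Pic Y) (h : ∀ i, pull (j i) d = 1) : d = 1 := by
  classical
  obtain ⟨M, hM, rfl⟩ := exists_mk d
  have h1 : ∀ i, ∃ e : Γ(M, (j i) ''ᵁ ⊤), IsGen e := by
    intro i
    have h2 := h i
    rw [pull_mk, mk_eq_one_iff] at h2
    obtain ⟨e⟩ := h2
    let e' : Coh.structureModule _ ≅ M.restrict (j i) :=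
      e.symm ≪≫ ((Scheme.Modules.restrictFunctorIsoPullback (j i)).app M).symm
    obtain ⟨m, hm⟩ := (toRestrict (M := M) (j i) (U := ⊤)).surjective (e'.hom.app ⊤ (one ⊤))
    refine ⟨m, ?_⟩
    rw [← isGen_toRestrict_iff (j i), hm]
    exact (isGen_one ⊤).app e'.hom
  choose e he using h1
  have hcov : (⊤ : Y.Opens) ≤ ⨆ i, (j i) ''ᵁ ⊤ := by
    intro y _
    obtain ⟨i, v, hv⟩ := hc y
    rw [Opens.mem_iSup]
    exact ⟨i, v, trivial, hv⟩
  obtain ⟨t, ht⟩ := res_glue M (V := ⊤) (fun i => (j i) ''ᵁ ⊤) (fun i => le_top) hcov e (by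
    intro i k
    by_cases hik : i = k
    · subst hik; rfl
    · have : Subsingleton Γ(M, (j i) ''ᵁ ⊤ ⊓ (j k) ''ᵁ ⊤) := H138.Glue2.subsingleton_bot M (by
        ext y
        simp only [Opens.coe_bot, Set.mem_empty_iff_false, iff_false]
        rintro ⟨⟨a, -, ha⟩, ⟨b, -, hb⟩⟩
        exact Set.disjoint_left.mp (hd i k hik) ⟨a, ha⟩ ⟨b, hb⟩)
      exact Subsingleton.elim _ _)
  have hgen : IsGen t := IsGen.of_cover (fun i => (j i) ''ᵁ ⊤) (fun i => le_top) hcov (by
    intro i
    rw [ht i]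
    exact he i)
  have : IsIso (homOf t) := by
    rw [isIso_iff_isGen, sec_homOf]
    exact hgen.res _
  rw [mk_eq_one_iff]
  exact ⟨(asIso (homOf t)).symm⟩

/-- A class is determined by its restrictions to pairwise disjoint open subschemes covering `Y`. -/
theorem eq_of_pull (hd : ∀ i k, i ≠ k → Disjoint (Set.range (j i).base) (Set.range (j k).base))
    (hc : ∀ y : Y, ∃ i, y ∈ Set.range (j i).base) {c c' : Pic Y} (h : ∀ i, pull (j i) c = pull (j i) c') :
    c = c' := by
  rw [← mul_inv_eq_one]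
  apply eq_one_of_pull j hd hc
  intro i
  rw [map_mul, map_inv, h i, mul_inv_cancel]

/-- The Picard group of the empty scheme is trivial. -/
theorem eq_of_isEmpty (h : IsEmpty Y) (c c' : Pic Y) : c = c' :=
  eq_of_pull (ι := PEmpty.{1}) (V := fun _ => Y) (fun _ => 𝟙 Y) (fun i => i.elim) (fun y => (h.false y).elim)
    (fun i => i.elim)

end Groth.Agent.Pic13.H953.PicDisj
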