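import Groth.Agent.Pic13.H953.EtFin
import Groth.Agent.Pic13.H953.PicDisj
import Groth.Agent.Ega3A.PicSheaf

/-!
# Sections of the étale-sheafified Picard functor over a scheme finite over `T`

`g : T' ⟶ T` in `Over S`, integral (for instance finite), `f : X ⟶ S` arbitrary.

* `exists_class` (F1a): a section `x` over `T'` of an étale sheafification of `Pic X_T` is the class of an invertible
  module over `𝒰.V i ×_T T'` for some étale covering `𝒰` of `T` by affine schemes;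
* `exists_eq` (F1b): two classes over `T'` which agree étale-locally on `T'` agree over `𝒰.V i ×_T T'` for some étale
  covering `𝒰` of `T` by affine schemes.
-/

set_option autoImplicit false
universe u

open CategoryTheory CategoryTheory.Limits AlgebraicGeometry Opposite TopologicalSpace

namespace Groth.Agent.Pic13.H953.FinEt

open Groth.Agent.Ega3A.PicDiv Groth.Agent.Ega3A.PicEtSh Groth.Agent.Ega3A.PicSheaf Groth.Agent.Grpsch.PicGrp
  Groth.Agent.Picfga.OverRep Groth.Agent.Pic13.H953.EtFin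

variable {X S : Scheme.{u}} (f : X ⟶ S)

lemma isOpenImmersion_XTmap {W : Over S} (O : W.left.Opens) : IsOpenImmersion (PicF.XTmap f (res W O)) :=
  MorphismProperty.of_isPullback (P := @IsOpenImmersion) (Picfga.HilbPull.isPullback_XTmap f (res W O)).flip
    (inferInstanceAs (IsOpenImmersion O.ι))

lemma mem_range_XTmap_iff {W : Over S} (O : W.left.Opens) (y : PicF.XT f W) :
    y ∈ Set.range (PicF.XTmap f (res W O)).base ↔ PicF.XTproj f W y ∈ O := by
  have h := Picfga.HilbPull.isPullback_XTmap f (res W O)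
  constructor
  · rintro ⟨z, rfl⟩
    rw [← Scheme.Hom.comp_apply, h.w, Scheme.Hom.comp_apply]
    exact (PicF.XTproj f (Over.mk (O.ι ≫ W.hom)) z).2
  · intro hy
    obtain ⟨z, hz, -⟩ := Scheme.exists_preimage_of_isPullback h y (⟨PicF.XTproj f W y, hy⟩ : O) rfl
    exact ⟨z, hz⟩

lemma isEmpty_XT {W : Over S} (h : IsEmpty W.left) : IsEmpty (PicF.XT f W) :=
  ⟨fun y => h.false (PicF.XTproj f W y)⟩

lemma disjoint_range {W : Over S} {O₁ O₂ : W.left.Opens} (h : O₁ ⊓ O₂ = ⊥) :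
    Disjoint (Set.range (PicF.XTmap f (res W O₁)).base) (Set.range (PicF.XTmap f (res W O₂)).base) := by
  rw [Set.disjoint_left]
  intro y h1 h2
  rw [mem_range_XTmap_iff] at h1 h2
  have h3 : PicF.XTproj f W y ∈ O₁ ⊓ O₂ := ⟨h1, h2⟩
  rw [h] at h3
  exact h3

lemma mem_range_or {W : Over S} {O₁ O₂ : W.left.Opens} (h : O₁ ⊔ O₂ = ⊤) (y : PicF.XT f W) :
    y ∈ Set.range (PicF.XTmap f (res W O₁)).base ∨ y ∈ Set.range (PicF.XTmap f (res W O₂)).base := by
  rw [mem_range_XTmap_iff, mem_range_XTmap_iff]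
  have h1 : PicF.XTproj f W y ∈ O₁ ⊔ O₂ := by rw [h]; trivial
  exact h1

/-- Gluing of classes over two disjoint opens of the base. -/
lemma exists_glue {W : Over S} {O₁ O₂ : W.left.Opens} (h : O₁ ⊓ O₂ = ⊥) (h' : O₁ ⊔ O₂ = ⊤)
    (c₁ : Pic (PicF.XT f (Over.mk (O₁.ι ≫ W.hom)))) (c₂ : Pic (PicF.XT f (Over.mk (O₂.ι ≫ W.hom)))) :
    ∃ c : Pic (PicF.XT f W), pu f (res W O₁) c = c₁ ∧ pu f (res W O₂) c = c₂ := by
  have := isOpenImmersion_XTmap f O₁
  have := isOpenImmersion_XTmap f O₂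
  exact H138.Glue2.exists_glue_class _ _ (disjoint_range f h) (mem_range_or f h') c₁ c₂

/-- Classes over two disjoint opens of the base determine a class. -/
lemma eq_of_res {W : Over S} {O₁ O₂ : W.left.Opens} (h : O₁ ⊓ O₂ = ⊥) (h' : O₁ ⊔ O₂ = ⊤)
    {c c' : Pic (PicF.XT f W)} (h₁ : pu f (res W O₁) c = pu f (res W O₁) c')
    (h₂ : pu f (res W O₂) c = pu f (res W O₂) c') : c = c' := by
  let O : Bool → W.left.Opens := fun b => cond b O₁ O₂
  have : ∀ b, IsOpenImmersion (PicF.XTmap f (res W (O b))) := fun b => isOpenImmersion_XTmap f (O b)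
  refine PicDisj.eq_of_pull (V := fun b => PicF.XT f (Over.mk ((O b).ι ≫ W.hom)))
    (fun b => PicF.XTmap f (res W (O b))) ?_ ?_ ?_
  · rintro (_ | _) (_ | _) hbk
    · exact absurd rfl hbk
    · exact (disjoint_range f h).symm
    · exact disjoint_range f h
    · exact absurd rfl hbk
  · intro y
    rcases mem_range_or f h' y with hy | hy
    · exact ⟨true, hy⟩
    · exact ⟨false, hy⟩
  · rintro (_ | _)
    · exact h₂
    · exact h₁

/-- The étale covering by two opens. -/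
noncomputable def twoCov {W : Over S} {O₁ O₂ : W.left.Opens} (h : O₁ ⊔ O₂ = ⊤) : ECov W where
  ι := ULift Bool
  V b := Over.mk ((cond b.down O₁ O₂).ι ≫ W.hom)
  j b := res W (cond b.down O₁ O₂)
  isEtale b := inferInstanceAs (Etale (cond b.down O₁ O₂).ι)
  covers t := by
    have h1 : t ∈ O₁ ⊔ O₂ := by rw [h]; trivial
    rcases h1 with h1 | h1
    · exact ⟨⟨true⟩, ⟨t, h1⟩, rfl⟩
    · exact ⟨⟨false⟩, ⟨t, h1⟩, rfl⟩

/-- The empty étale covering of an empty scheme. -/
def emptyCov {W : Over S} (h : IsEmpty W.left) : ECov W where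
  ι := PEmpty
  V b := b.elim
  j b := b.elim
  isEtale b := b.elim
  covers t := (h.false t).elim

variable {f}

lemma disjSieve_class (E : PicSh f) {T' : Over S} (x : E.G.obj (op T')) :
    DisjSieve T' (fun {W} (q : W ⟶ T') => ∃ c : Pic (PicF.XT f W), E.η c = E.G.map q.op x) where
  precomp := by
    rintro W W' θ q ⟨c, hc⟩
    refine ⟨pu f θ c, ?_⟩
    rw [E.nat, hc, map_comp_apply]
  empty := by
    intro W q hW
    refine ⟨1, ((isEtSheaf_iff _).1 E.sheaf).ext_cover W (emptyCov hW) _ _ (fun i => i.elim)⟩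
  union := by
    rintro W q O₁ O₂ h h' ⟨c₁, hc₁⟩ ⟨c₂, hc₂⟩
    obtain ⟨c, h1, h2⟩ := exists_glue f h h' c₁ c₂
    refine ⟨c, ((isEtSheaf_iff _).1 E.sheaf).ext_cover W (twoCov h') _ _ ?_⟩
    rintro ⟨_ | _⟩
    · change E.G.map (res W O₂).op (E.η c) = E.G.map (res W O₂).op _
      rw [← E.nat, h2, hc₂, map_comp_apply]
    · change E.G.map (res W O₁).op (E.η c) = E.G.map (res W O₁).op _
      rw [← E.nat, h1, hc₁, map_comp_apply]

lemma disjSieve_eq {T' : Over S} (c c' : Pic (PicF.XT f T')) :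
    DisjSieve T' (fun {W} (q : W ⟶ T') => pu f q c = pu f q c') where
  precomp := by
    intro W W' θ q h
    rw [pu_comp, pu_comp, h]
  empty := fun q hW => PicDisj.eq_of_isEmpty (isEmpty_XT f hW) _ _
  union := by
    intro W q O₁ O₂ h h' h1 h2
    rw [pu_comp, pu_comp] at h1 h2
    exact eq_of_res f h h' h1 h2

/-- **F1a**. -/
theorem exists_class {T T' : Over S} (g : T' ⟶ T) [IsIntegralHom g.left] (E : PicSh f) (x : E.G.obj (op T')) :
    ∃ 𝒰 : ECov T, (∀ i, IsAffine (𝒰.V i).left) ∧ ∀ i, ∃ c : Pic (PicF.XT f (pullback (𝒰.j i) g)),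
      E.η c = E.G.map (pullback.snd (𝒰.j i) g).op x := by
  obtain ⟨𝒱, h𝒱⟩ := E.locSurj T' x
  exact exists_ecov (disjSieve_class E x) g 𝒱 h𝒱

/-- **F1b**. -/
theorem exists_eq {T T' : Over S} (g : T' ⟶ T) [IsIntegralHom g.left] (c c' : Pic (PicF.XT f T'))
    (h : LocEq f T' c c') : ∃ 𝒰 : ECov T, (∀ i, IsAffine (𝒰.V i).left) ∧
      ∀ i, pu f (pullback.snd (𝒰.j i) g) c = pu f (pullback.snd (𝒰.j i) g) c' := by
  obtain ⟨𝒱, h𝒱⟩ := h
  exact exists_ecov (disjSieve_eq c c') g 𝒱 h𝒱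

end Groth.Agent.Pic13.H953.FinEt
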