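import Groth.Agent.Pic13.H547.RelRep
import Groth.Agent.Ega3A.PicSheaf
import Groth.Agent.Desc.MorDescent

/-!
# Étale-local conditions given by closed subschemes

`exists_closed'`: let `L` be a condition on morphisms `T ⟶ P₀` in `Over S`, stable under base change and étale-local.
If étale-locally on `P₀` it is given by a closed subscheme, then it is given by a closed subscheme of `P₀`.
-/

set_option autoImplicit false
universe u

open CategoryTheory CategoryTheory.Limits AlgebraicGeometry Opposite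
open Groth.Agent.Picfga.OverRep Groth.Agent.Models2.QuoRep

namespace Groth.Agent.Pic13.H953.ClosedSub

open Groth.Agent.Ega3A.PicEtSh (ECov)
open Groth.Agent.Ega3A.PicSheaf (toEt ofEt)
open Groth.Agent.Pic13.H547.RelRep

variable {S : Scheme.{u}} (P₀ : Over S) (L : ∀ T : Over S, (T ⟶ P₀) → Prop)

/-- The subfunctor of `P₀` given by the condition. -/
def sub (hbc : ∀ {T T' : Over S} (g : T' ⟶ T) (a : T ⟶ P₀), L T a → L T' (g ≫ a)) :
    (Over S)ᵒᵖ ⥤ Type u where
  obj T := { a : T.unop ⟶ P₀ // L T.unop a }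
  map g := ↾(fun a => ⟨g.unop ≫ a.1, hbc g.unop a.1 a.2⟩)
  map_id T := by
    ext a
    change (𝟙 _ ≫ a.1).left = a.1.left
    rw [Category.id_comp]
  map_comp g h := by
    ext a
    change ((h.unop ≫ g.unop) ≫ a.1).left = (h.unop ≫ g.unop ≫ a.1).left
    rw [Category.assoc]

variable {P₀ L}

lemma isEtSheaf_sub (hbc : ∀ {T T' : Over S} (g : T' ⟶ T) (a : T ⟶ P₀), L T a → L T' (g ≫ a))
    (hloc : ∀ {T : Over S} (𝒰 : ECov T) (a : T ⟶ P₀), (∀ i, L _ (𝒰.j i ≫ a)) → L T a) :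
    IsEtSheaf (sub P₀ L hbc) := by
  intro T 𝒰 x hx
  obtain ⟨k, hk⟩ := glue_hom_etCov 𝒰 (fun i => (x i).1) (by
    intro i k W a b hab
    exact congrArg Subtype.val (hx i k W a b hab))
  refine ⟨⟨k, hloc (ofEt 𝒰) k (fun i => ?_)⟩, fun i => Subtype.ext (hk i), ?_⟩
  · have h1 : (ofEt 𝒰).j i ≫ k = (x i).1 := hk i
    rw [h1]
    exact (x i).2
  · rintro ⟨k', hk'⟩ h
    apply Subtype.ext
    apply hom_ext_etCov 𝒰
    intro i
    rw [hk i]
    exact congrArg Subtype.val (h i)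

/-- The inclusion of the subfunctor. -/
def incl (hbc : ∀ {T T' : Over S} (g : T' ⟶ T) (a : T ⟶ P₀), L T a → L T' (g ≫ a)) :
    ToSch (sub P₀ L hbc) P₀ where
  π x := x.1
  nat _ _ := rfl

/-- **A condition which is étale-locally given by closed subschemes is given by a closed subscheme.** -/
theorem exists_closed' (hbc : ∀ {T T' : Over S} (g : T' ⟶ T) (a : T ⟶ P₀), L T a → L T' (g ≫ a))
    (hloc : ∀ {T : Over S} (𝒰 : ECov T) (a : T ⟶ P₀), (∀ i, L _ (𝒰.j i ≫ a)) → L T a)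
    (hchart : ∀ κ : P₀.left, ∃ (V A : Over S) (j : V ⟶ P₀) (a : A ⟶ V), IsAffine V.left ∧ Etale j.left ∧
      κ ∈ Set.range j.left ∧ IsClosedImmersion a.left ∧
      ∀ (T : Over S) (v : T ⟶ V), L T (v ≫ j) ↔ ∃ g : T ⟶ A, g ≫ a = v) :
    ∃ (K : Over S) (ι : K ⟶ P₀), IsClosedImmersion ι.left ∧
      ∀ (T : Over S) (a : T ⟶ P₀), L T a ↔ ∃ h : T ⟶ K, h ≫ ι = a := by
  have hmono : ∀ {A V : Over S} (a : A ⟶ V), IsClosedImmersion a.left → Mono a := by
    intro A V a ha
    have h1 : Mono a.left := inferInstance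
    exact (Over.forget S).mono_of_mono_map h1
  obtain ⟨K, Z, -, hZ⟩ := exists_of_etale_affine (isEtSheaf_sub hbc hloc) (incl hbc) (by
    intro κ
    obtain ⟨V, A, j, a, hV, hj, hκ, ha, hiff⟩ := hchart κ
    have := hmono a ha
    exact ⟨{ V := V, A := A, j := j, a := a
             ξ := ⟨a ≫ j, (hiff A a).2 ⟨𝟙 A, Category.id_comp a⟩⟩
             etale := hj, mem := hκ, affV := hV, aff := inferInstance
             univ := by
               refine ⟨rfl, fun T v x hx => ?_⟩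
               have hx' : x.1 = v ≫ j := hx
               obtain ⟨g, hg⟩ := (hiff T v).1 (hx' ▸ x.2)
               refine ⟨g, ⟨hg, Subtype.ext ?_⟩, ?_⟩
               · change g ≫ a ≫ j = x.1
                 rw [hx', ← hg, Category.assoc]
               · rintro g' ⟨hg', -⟩
                 rw [← cancel_mono a, hg', hg] }⟩)
  have hLZ : L K Z.1 := Z.2
  have hiffK : ∀ (T : Over S) (a : T ⟶ P₀), L T a ↔ ∃ h : T ⟶ K, h ≫ Z.1 = a := by
    intro T a
    constructor
    · intro h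
      obtain ⟨g, hg, -⟩ := hZ T ⟨a, h⟩
      exact ⟨g, congrArg Subtype.val hg⟩
    · rintro ⟨h, rfl⟩
      exact hbc h _ hLZ
  have ext : ∀ {T : Over S} (a b : T ⟶ K), a ≫ Z.1 = b ≫ Z.1 → a = b := fun {T} a b hab =>
    (hZ T ((sub P₀ L hbc).map b.op Z)).unique (Subtype.ext hab) rfl
  refine ⟨K, Z.1, ?_, hiffK⟩
  have := Desc.MorDescent.descendsAlong_isClosedImmersion.{u}
  apply Sga3B.RepDescent.of_etale_cover (P := @IsClosedImmersion)
  intro κ
  obtain ⟨V, A, j, a, hV, hj, hκ, ha, hiff⟩ := hchart κ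
  have := hmono a ha
  refine ⟨V.left, j.left, hj, hκ, ?_⟩
  obtain ⟨g, hg⟩ := (hiffK A (a ≫ j)).1 ((hiff A a).2 ⟨𝟙 A, Category.id_comp a⟩)
  have key : ∀ {T : Over S} (x : T ⟶ K) (v : T ⟶ V), x ≫ Z.1 = v ≫ j → ∃ w : T ⟶ A, w ≫ a = v := by
    intro T x v hxv
    exact (hiff T v).1 (hxv ▸ hbc x _ hLZ)
  have sq : IsPullback g a Z.1 j := by
    refine ⟨⟨hg⟩, ⟨PullbackCone.IsLimit.mk _ (fun s => (key s.fst s.snd s.condition).choose) ?_ ?_ ?_⟩⟩
    · intro s
      apply ext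
      have h1 := (key s.fst s.snd s.condition).choose_spec
      rw [Category.assoc, hg, ← Category.assoc, h1, s.condition]
    · intro s
      exact (key s.fst s.snd s.condition).choose_spec
    · intro s m hm1 hm2
      rw [← cancel_mono a, hm2]
      exact (key s.fst s.snd s.condition).choose_spec.symm
  have sq' : IsPullback g.left a.left (show K ⟶ P₀ from Z.1).left j.left := sq.map (Over.forget S)
  rw [← sq'.isoPullback_inv_snd]
  infer_instance

/-- The statement of (N2) in S4298. -/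
theorem exists_closed {S : Scheme.{u}} (P₀ : Over S) (L : ∀ T : Over S, (T ⟶ P₀) → Prop)
    (hbc : ∀ {T T' : Over S} (g : T' ⟶ T) (a : T ⟶ P₀), L T a → L T' (g ≫ a))
    (hloc : ∀ {T : Over S} (𝒰 : ECov T) (a : T ⟶ P₀), (∀ i, L _ (𝒰.j i ≫ a)) → L T a)
    (hchart : ∀ κ : P₀.left, ∃ (V A : Over S) (j : V ⟶ P₀) (a : A ⟶ V), IsAffine V.left ∧ Etale j.left ∧
      κ ∈ Set.range j.left ∧ IsClosedImmersion a.left ∧
      ∀ (T : Over S) (v : T ⟶ V), L T (v ≫ j) ↔ ∃ g : T ⟶ A, g ≫ a = v) :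
    ∃ (K : Over S) (ι : K ⟶ P₀), Mono ι ∧ IsAffineHom ι.left ∧ LocallyOfFiniteType ι.left ∧
      ∀ (T : Over S) (a : T ⟶ P₀), L T a ↔ ∃ h : T ⟶ K, h ≫ ι = a := by
  obtain ⟨K, ι, h1, h2⟩ := exists_closed' hbc hloc hchart
  have h3 : Mono ι.left := inferInstance
  exact ⟨K, ι, (Over.forget S).mono_of_mono_map h3, inferInstance, inferInstance, h2⟩

end Groth.Agent.Pic13.H953.ClosedSub
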