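import Groth.Agent.Pic13.H953.AmplePic
import Groth.Agent.Etcore.DegZero
import Groth.Agent.S1530

/-!
# The degree of an ample class on a proper integral curve is positive; bounded degrees from ample twists
-/

set_option autoImplicit false
universe u

open CategoryTheory CategoryTheory.Limits AlgebraicGeometry

namespace Groth.Agent.Pic13.H953.AmpDeg

open Groth.Agent.Grpsch.PicGrp Groth.Agent.Etcore.DegZero Groth.Agent.Pic13.H953.AmplePic

theorem dg_pos (k : Type u) [Field k] (X : Scheme.{u}) [X.Over (Spec (CommRingCat.of k))]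
    [IsIntegral X] [IsProper (X ↘ (Spec (CommRingCat.of k)))] (hdim : topologicalKrullDim X = 1)
    {a : Pic X} (ha : IsAmp a) : 0 < dg k X a := by
  obtain ⟨L, hL, rfl, h⟩ := ha
  have h1 := (S1530.result k X hdim L hL).mp h
  rw [Curv2.deg] at h1
  rw [dg_mk, eulerCharLE_eq k X hdim, eulerCharLE_eq k X hdim]
  push_cast at h1
  linarith

/-- If `h^N a` and `h^N a⁻¹` are ample then `|deg a| ≤ N deg h`. -/
theorem abs_dg_le (k : Type u) [Field k] (X : Scheme.{u}) [X.Over (Spec (CommRingCat.of k))]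
    [IsIntegral X] [IsProper (X ↘ (Spec (CommRingCat.of k)))] (hdim : topologicalKrullDim X = 1)
    {h a : Pic X} {N : ℕ} (h1 : IsAmp (h ^ N * a)) (h2 : IsAmp (h ^ N * a⁻¹)) :
    |dg k X a| ≤ N * dg k X h := by
  have e1 := dg_pos k X hdim h1
  have e2 := dg_pos k X hdim h2
  rw [dg_mul k X hdim, dg_pow k X hdim] at e1 e2
  rw [dg_inv k X hdim] at e2
  rw [abs_le]
  constructor <;> linarith

/-- The degree on a curve `i : Y ⟶ X`. -/
theorem curveDeg_eq_dg (k : Type u) [Field k] {Y : Scheme.{u}} (p : Y ⟶ Spec (CommRingCat.of k))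
    {L : Y.Modules} (hL : PicF.IsInvertible L) : Pic13.curveDeg k p L = @dg k _ Y ⟨p⟩ (mk L hL) := rfl

theorem abs_curveDeg_le (k : Type u) [Field k] (X : Scheme.{u}) [X.Over (Spec (CommRingCat.of k))]
    [IsProper (X ↘ (Spec (CommRingCat.of k)))] {Y : Scheme.{u}} (i : Y ⟶ X) [IsClosedImmersion i]
    [IsIntegral Y] (hdim : topologicalKrullDim Y = 1)
    {H L : X.Modules} (hH : PicF.IsInvertible H) (hL : PicF.IsInvertible L) {N : ℕ}
    (h1 : IsAmp (mk H hH ^ N * mk L hL)) (h2 : IsAmp (mk H hH ^ N * (mk L hL)⁻¹)) :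
    |Pic13.curveDeg k (i ≫ (X ↘ Spec (CommRingCat.of k))) ((Scheme.Modules.pullback i).obj L)| ≤
      N * Pic13.curveDeg k (i ≫ (X ↘ Spec (CommRingCat.of k))) ((Scheme.Modules.pullback i).obj H) := by
  letI : Y.Over (Spec (CommRingCat.of k)) := ⟨i ≫ (X ↘ Spec (CommRingCat.of k))⟩
  haveI : IsProper (Y ↘ Spec (CommRingCat.of k)) :=
    (inferInstance : IsProper (i ≫ (X ↘ Spec (CommRingCat.of k))))
  have h1' := h1.pull i
  have h2' := h2.pull i
  rw [map_mul, map_pow] at h1' h2'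
  rw [map_inv] at h2'
  exact abs_dg_le k Y hdim h1' h2'

end Groth.Agent.Pic13.H953.AmpDeg
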