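import Groth.Agent.Pic13.H138.Slice
import Groth.Agent.CohqB.AmpGeneric
import Groth.Agent.S2327
import Groth.Agent.S2328
import Groth.Agent.S2329

/-!
# Ample classes in `Pic X`, and uniform ampleness in families parametrised by a class on `X ×_k T`
-/

set_option autoImplicit false
universe u

open CategoryTheory CategoryTheory.Limits AlgebraicGeometry

namespace Groth.Agent.Pic13.H953.AmplePic

open Groth.Agent.Grpsch.PicGrp Groth.Agent.Fdesc.LocGen Groth.Agent.Pic13.H138.Slice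

variable {X Y : Scheme.{u}}

/-- A class in `Pic X` is ample. -/
def IsAmp (a : Pic X) : Prop := ∃ (L : X.Modules) (hL : PicF.IsInvertible L), a = mk L hL ∧ CohB1.IsAmple L

theorem isAmp_mk {L : X.Modules} (hL : PicF.IsInvertible L) : IsAmp (mk L hL) ↔ CohB1.IsAmple L := by
  constructor
  · rintro ⟨M, hM, e, h⟩
    obtain ⟨i⟩ := (mk_eq_iff _ _).mp e
    exact CohqB.AmpCocycle.isAmple_of_iso i.symm h
  · intro h
    exact ⟨L, hL, rfl, h⟩

theorem IsAmp.pull (f : X ⟶ Y) [IsAffineHom f] {a : Pic Y} (h : IsAmp a) :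
    IsAmp (Grpsch.PicGrp.pull f a) := by
  obtain ⟨L, hL, rfl, h⟩ := h
  rw [pull_mk, isAmp_mk]
  exact CohqB.AmpCocycle.isAmple_pullback f h

theorem isAmp_mk_tensorMod {L M : X.Modules} (hL : PicF.IsInvertible L) (hM : PicF.IsInvertible M) :
    IsAmp (mk L hL * mk M hM) ↔ CohB1.IsAmple (CohB1.tensorMod L M) := by
  rw [mk_mul_mk, isAmp_mk]

/-- `H^n ⊗ a` is ample for all large `n`. -/
theorem IsAmp.exists_pow_mul [CompactSpace X] [X.IsSeparated] {h : Pic X} (hh : IsAmp h) (a : Pic X) :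
    ∃ n₀ : ℕ, ∀ n, n₀ ≤ n → IsAmp (h ^ n * a) := by
  obtain ⟨H, hH, rfl, hh⟩ := hh
  induction a using ind with | _ L hL => ?_
  obtain ⟨n₀, -, h₀⟩ := Groth.Agent.S2329.result X H L hh hL
  refine ⟨n₀, fun n hn => ?_⟩
  rw [← mk_tensorPow hH, isAmp_mk_tensorMod]
  exact (h₀ n hn).1

section family

variable (k : Type u) [Field k] (X : Scheme.{u}) [X.Over (Spec (CommRingCat.of k))]

local notation "Sk" => Spec (CommRingCat.of k)

/-- Slices over `k`-points are closed immersions. -/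
theorem isClosedImmersion_sliceAt {T : Scheme.{u}} (q : T ⟶ Sk) [IsSeparated q] (t : Sk ⟶ T)
    (ht : t ≫ q = 𝟙 _) : IsClosedImmersion (Pic13.sliceAt k X q t ht) := by
  have h1 : IsClosedImmersion (Pic13.sliceAt k X q t ht ≫ pullback.fst (X ↘ Sk) q) := by
    rw [sliceAt_fst]; infer_instance
  exact IsClosedImmersion.of_comp _ (pullback.fst (X ↘ Sk) q)

/-- Uniform ampleness along an invertible module on `X ×_k T`, `T` affine. -/
theorem exists_uniform_of_isAffine [CompactSpace X] [X.IsSeparated] {T : Scheme.{u}} [IsAffine T]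
    (q : T ⟶ Sk) (c : Pic (Pic13.prodK k X q)) {h : Pic X} (hh : IsAmp h) :
    ∃ n₀ : ℕ, ∀ n, n₀ ≤ n → ∀ (t : Sk ⟶ T) (ht : t ≫ q = 𝟙 _), IsAmp (h ^ n * fibCl k X q t ht c) := by
  have h1 : IsAffineHom (pullback.fst (X ↘ Sk) q) :=
    MorphismProperty.pullback_fst _ _ (isAffineHom_of_isAffine q)
  have h2 : CompactSpace ↥(Pic13.prodK k X q) :=
    QuasiCompact.compactSpace_of_compactSpace (pullback.fst (X ↘ Sk) q)
  have h3 : (Pic13.prodK k X q).IsSeparated := by
    constructor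
    have : terminal.from (Pic13.prodK k X q) = pullback.fst (X ↘ Sk) q ≫ terminal.from X :=
      Subsingleton.elim _ _
    rw [this]
    infer_instance
  obtain ⟨n₀, h₀⟩ := (hh.pull (pullback.fst (X ↘ Sk) q)).exists_pow_mul c
  refine ⟨n₀, fun n hn t ht => ?_⟩
  have := isClosedImmersion_sliceAt k X q t ht
  have h4 := (h₀ n hn).pull (Pic13.sliceAt k X q t ht)
  rw [map_mul, map_pow] at h4
  change IsAmp (fibCl k X q t ht _ ^ n * fibCl k X q t ht c) at h4
  rwa [fibCl_pull_fst] at h4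

end family

end Groth.Agent.Pic13.H953.AmplePic
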