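import Groth.Agent.Ega3A.PicEtSh
import Groth.Agent.Sga4B.RefineInt
import Mathlib.AlgebraicGeometry.Limits

/-!
# Étale coverings of a scheme finite over `T` are refined by étale coverings of `T`

Let `g : T' ⟶ T` in `Over S` be integral and `R` a class of arrows to `T'` which is stable under precomposition,
contains the arrows from empty schemes and is stable under disjoint unions of two open subschemes.  If `R` contains the
members of an étale covering of `T'`, then there is an étale covering `𝒰` of `T` by affine schemes such that `R`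
contains all projections `𝒰.V i ×_T T' ⟶ T'` (`exists_ecov`).
-/

set_option autoImplicit false
universe w u

open CategoryTheory CategoryTheory.Limits AlgebraicGeometry Opposite TopologicalSpace

namespace Groth.Agent.Pic13.H953.EtFin

open Groth.Agent.Ega3A.PicEtSh Groth.Agent.Picfga.OverRep

variable {S : Scheme.{u}}

/-- A class of arrows to `T'` which is stable under precomposition, contains the arrows from empty schemes and is
stable under disjoint unions of two open subschemes. -/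
structure DisjSieve (T' : Over S) (R : ∀ {W : Over S}, (W ⟶ T') → Prop) : Prop where
  precomp : ∀ {W W' : Over S} (θ : W' ⟶ W) (q : W ⟶ T'), R q → R (θ ≫ q)
  empty : ∀ {W : Over S} (q : W ⟶ T'), IsEmpty W.left → R q
  union : ∀ {W : Over S} (q : W ⟶ T') (O₁ O₂ : W.left.Opens), O₁ ⊓ O₂ = ⊥ → O₁ ⊔ O₂ = ⊤ →
    R (res W O₁ ≫ q) → R (res W O₂ ≫ q) → R q

/-- Factorisation through an open subscheme. -/
lemma exists_lift {A W : Over S} (a : A ⟶ W) (V : W.left.Opens) (h : ∀ x : A.left, a.left x ∈ V) :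
    ∃ θ : A ⟶ Over.mk (V.ι ≫ W.hom), θ ≫ res W V = a := by
  have hr : Set.range a.left ⊆ Set.range V.ι := by
    rintro _ ⟨x, rfl⟩
    rw [Scheme.Opens.range_ι]
    exact h x
  have h1 : IsOpenImmersion.lift V.ι a.left hr ≫ V.ι = a.left := IsOpenImmersion.lift_fac _ _ _
  refine ⟨Over.homMk (IsOpenImmersion.lift V.ι a.left hr) ?_, ?_⟩
  · change _ ≫ V.ι ≫ W.hom = _
    rw [reassoc_of% h1, Over.w]
  · ext
    exact h1

variable {T' : Over S} {R : ∀ {W : Over S}, (W ⟶ T') → Prop}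

lemma DisjSieve.of_lift (hR : DisjSieve T' R) {A W : Over S} (a : A ⟶ W) (q : W ⟶ T') (V : W.left.Opens)
    (h : ∀ x : A.left, a.left x ∈ V) (hV : R (res W V ≫ q)) : R (a ≫ q) := by
  obtain ⟨θ, hθ⟩ := exists_lift a V h
  have h1 := hR.precomp θ _ hV
  rwa [← Category.assoc, hθ] at h1

theorem DisjSieve.finset (hR : DisjSieve T' R) {W : Over S} (q : W ⟶ T') {ι : Type*} (O : ι → W.left.Opens)
    (hd : ∀ i k, i ≠ k → O i ⊓ O k = ⊥) (hO : ∀ i, R (res W (O i) ≫ q)) (s : Finset ι) :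
    R (res W (⨆ i ∈ s, O i) ≫ q) := by
  classical
  induction s using Finset.induction_on with
  | empty =>
    apply hR.empty
    constructor
    rintro ⟨x, hx⟩
    simp at hx
  | insert i s hi ih =>
    have hU : (⨆ k ∈ insert i s, O k) = O i ⊔ ⨆ k ∈ s, O k := Finset.iSup_insert i s O
    have hdis : O i ⊓ (⨆ k ∈ s, O k) = ⊥ := by
      rw [inf_iSup₂_eq]
      simp only [iSup_eq_bot]
      intro k hk
      apply hd
      rintro rfl
      exact hi hk
    rw [hU]
    generalize (⨆ k ∈ s, O k) = O' at hdis ih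
    refine hR.union (W := Over.mk ((O i ⊔ O').ι ≫ W.hom)) _ ((O i ⊔ O').ι ⁻¹ᵁ O i) ((O i ⊔ O').ι ⁻¹ᵁ O') ?_ ?_ ?_ ?_
    · ext x
      simp only [Opens.coe_bot, Set.mem_empty_iff_false, iff_false]
      intro hx
      have h1 : (O i ⊔ O').ι x ∈ O i ⊓ O' := ⟨hx.1, hx.2⟩
      rw [hdis] at h1
      exact h1
    · rw [eq_top_iff]
      intro x _
      have h1 : (O i ⊔ O').ι x ∈ O i ⊔ O' := x.2
      exact h1
    · rw [← Category.assoc]
      exact hR.of_lift _ q (O i) (fun x => x.2) (hO i)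
    · rw [← Category.assoc]
      exact hR.of_lift _ q O' (fun x => x.2) ih

theorem DisjSieve.of_cover (hR : DisjSieve T' R) {W : Over S} [CompactSpace W.left] (q : W ⟶ T') {ι : Type*}
    (O : ι → W.left.Opens) (hd : ∀ i k, i ≠ k → O i ⊓ O k = ⊥) (hc : ∀ x : W.left, ∃ i, x ∈ O i)
    (hO : ∀ i, R (res W (O i) ≫ q)) : R q := by
  obtain ⟨s, hs⟩ := isCompact_univ.elim_finite_subcover (fun i => (O i : Set W.left)) (fun i => (O i).2) (by
    intro x _
    obtain ⟨i, hi⟩ := hc x
    exact Set.mem_iUnion.2 ⟨i, hi⟩)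
  have h1 := hR.finset q O hd hO s
  have h2 := hR.of_lift (𝟙 W) q (⨆ i ∈ s, O i) (by
    intro x
    obtain ⟨i, hi, hx⟩ := Set.mem_iUnion₂.1 (hs (Set.mem_univ x))
    simp only [Opens.mem_iSup]
    exact ⟨i, hi, hx⟩) h1
  rwa [Category.id_comp] at h2

/-- **Étale coverings of a scheme integral over `T` are refined, up to disjoint unions, by étale coverings of
`T`.** -/
theorem exists_ecov (hR : DisjSieve T' R) {T : Over S} (g : T' ⟶ T) [IsIntegralHom g.left] (𝒱 : ECov T')
    (h𝒱 : ∀ i, R (𝒱.j i)) :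
    ∃ 𝒰 : ECov T, (∀ i, IsAffine (𝒰.V i).left) ∧ ∀ i, R (pullback.snd (𝒰.j i) g) := by
  classical
  let Z : 𝒱.ι → Scheme.{u} := fun i => (𝒱.V i).left
  let a : (∐ Z) ⟶ T'.left := Sigma.desc (fun i => (𝒱.j i).left)
  have haι : ∀ i, Sigma.ι Z i ≫ a = (𝒱.j i).left := fun i => Sigma.ι_desc _ _
  have ha : Etale a := IsZariskiLocalAtSource.sigmaDesc (P := @Etale) (fun i => 𝒱.isEtale i)
  have key : ∀ t : T.left, ∃ (V' : Scheme.{u}) (_ : IsAffine V') (h : V' ⟶ T.left) (_ : Etale h) (v' : V'), h v' = t ∧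
      ∃ l : pullback g.left h ⟶ ∐ Z, l ≫ a = pullback.fst g.left h := by
    intro t
    obtain ⟨V', h, _, v', hv', l, hl⟩ := Sga4B.RefineInt.refine_of_isIntegralHom g.left t (∐ Z) a (by
      intro y _
      obtain ⟨i, v, hv⟩ := 𝒱.covers y
      refine ⟨Sigma.ι Z i v, ?_⟩
      rw [← Scheme.Hom.comp_apply, haι i]
      exact hv)
    obtain ⟨N, hN, hvN, -⟩ := exists_isAffineOpen_mem_and_subset (x := v') (U := ⊤) trivial
    have : IsAffine N.toScheme := hN
    refine ⟨N.toScheme, hN, N.ι ≫ h, inferInstance, ⟨v', hvN⟩, ?_, ?_⟩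
    · rw [Scheme.Hom.comp_apply]
      exact hv'
    · refine ⟨pullback.lift (pullback.fst _ _) (pullback.snd _ _ ≫ N.ι) ?_ ≫ l, ?_⟩
      · rw [pullback.condition, Category.assoc]
      · rw [Category.assoc, hl, pullback.lift_fst]
  choose V' hV' h hh v' hv' l hl using key
  let 𝒰 : ECov T :=
    { ι := T.left
      V := fun t => Over.mk (h t ≫ T.hom)
      j := fun t => Over.homMk (h t) rfl
      isEtale := hh
      covers := fun t => ⟨t, v' t, hv' t⟩ }
  refine ⟨𝒰, hV', fun t => ?_⟩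
  let P : Over S := pullback (𝒰.j t) g
  let p : P ⟶ 𝒰.V t := pullback.fst (𝒰.j t) g
  let q : P ⟶ T' := pullback.snd (𝒰.j t) g
  have hsq : IsPullback p.left q.left (h t) g.left := (IsPullback.of_hasPullback (𝒰.j t) g).map (Over.forget S)
  have hpi : IsIntegralHom p.left := MorphismProperty.of_isPullback (P := @IsIntegralHom) hsq.flip inferInstance
  have : IsAffine (𝒰.V t).left := hV' t
  have : IsAffine P.left := isAffine_of_isAffineHom p.left
  let m : P.left ⟶ ∐ Z := pullback.lift q.left p.left hsq.w.symm ≫ l t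
  have hm : m ≫ a = q.left := by
    rw [Category.assoc, hl, pullback.lift_fst]
  let O : 𝒱.ι → P.left.Opens := fun i => m ⁻¹ᵁ (Sigma.ι Z i).opensRange
  change R q
  refine hR.of_cover q O ?_ ?_ ?_
  · intro i k hik
    ext x
    simp only [Opens.coe_bot, Set.mem_empty_iff_false, iff_false]
    intro hx
    have h3 : m x ∈ (Sigma.ι Z i).opensRange ⊓ (Sigma.ι Z k).opensRange := ⟨hx.1, hx.2⟩
    rw [(disjoint_opensRange_sigmaι Z i k hik).eq_bot] at h3
    exact h3
  · intro x
    obtain ⟨i, y, hy⟩ := (sigmaOpenCover Z).exists_eq (m x)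
    exact ⟨i, y, hy⟩
  · intro i
    have hr : Set.range ((O i).ι ≫ m) ⊆ Set.range (Sigma.ι Z i) := by
      rintro _ ⟨x, rfl⟩
      exact x.2
    have h1 : IsOpenImmersion.lift (Sigma.ι Z i) ((O i).ι ≫ m) hr ≫ Sigma.ι Z i = (O i).ι ≫ m :=
      IsOpenImmersion.lift_fac _ _ _
    have h2 : IsOpenImmersion.lift (Sigma.ι Z i) ((O i).ι ≫ m) hr ≫ (𝒱.j i).left = (O i).ι ≫ q.left := by
      rw [← haι i, reassoc_of% h1, hm]
    let θ : Over.mk ((O i).ι ≫ P.hom) ⟶ 𝒱.V i :=
      Over.homMk (IsOpenImmersion.lift (Sigma.ι Z i) ((O i).ι ≫ m) hr) (by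
        change _ = (O i).ι ≫ P.hom
        rw [← Over.w (𝒱.j i), reassoc_of% h2, Over.w])
    have h3 : θ ≫ 𝒱.j i = res P (O i) ≫ q := by
      ext
      exact h2
    rw [← h3]
    exact hR.precomp θ _ (h𝒱 i)

end Groth.Agent.Pic13.H953.EtFin
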