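import Groth.Agent.Pic13.H953.S4287_of_core
import Groth.Agent.CalgB.ProjField

/-!
# S4287, final assembly

`result_of` : the statement of S4287 from
* `hnum` : for `X` closed in a projective space, the numerically trivial invertible modules form a
  bounded family;
* `hfin` : `Pic X / n` is finite for one `n ≥ 2`.
-/

set_option autoImplicit false
universe u
open CategoryTheory CategoryTheory.Limits AlgebraicGeometry

namespace Groth.Agent.Pic13.H953.Final4287

open Groth.Agent.Grpsch.PicGrp Groth.Agent.Pic13.H138.BddPic Groth.Agent.Pic13.H950.NumCl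

/-- The numerically trivial classes are bounded when the numerically trivial modules are. -/
theorem bddPic_numCl (k : Type u) [Field k] (X : Scheme.{u}) [X.Over (Spec (CommRingCat.of k))]
    [IsProper (X ↘ Spec (CommRingCat.of k))]
    (h : Pic13.IsBounded k X (fun N => PicF.IsInvertible N ∧ Pic13.IsNumEquivZero k X N)) :
    BddPic k X (numCl k X : Set (Pic X)) := by
  refine BddPic.mono (H969.Bridge.bridge k X _ h) fun a ha => ?_
  obtain ⟨L, hL, rfl⟩ := exists_mk a
  exact ⟨L, hL, ⟨hL, (mem_numCl_iff k X hL).mp ha⟩, rfl⟩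

theorem result_of (k : Type u) [Field k] (X : Scheme.{u}) [X.Over (Spec (CommRingCat.of k))]
    [IsProper (X ↘ Spec (CommRingCat.of k))]
    (hnum : ∀ (n : ℕ) (i : X ⟶ CohB1.ProjSpace n k) [IsClosedImmersion i],
      i ≫ CohB1.ProjSpace.toSpec n k = X ↘ Spec (CommRingCat.of k) →
      Pic13.IsBounded k X (fun N => PicF.IsInvertible N ∧ Pic13.IsNumEquivZero k X N))
    (n : ℕ) (hn : 2 ≤ n)
    (hfin : ∃ S : Set (Pic X), S.Finite ∧ ∀ c : Pic X, ∃ s ∈ S, ∃ d, c = s * d ^ n)
    (H : X.Modules) (hH : CohB1.IsAmple H) (P : X.Modules → Prop) (hP : ∀ L, P L → PicF.IsInvertible L) :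
    Pic13.IsBounded k X P ↔ ∃ N : ℕ, ∀ L L' : X.Modules, P L → Nonempty (CohB1.tensorMod L L' ≅ Coh.structureModule X) →
      CohB1.IsAmple (CohB1.tensorMod (CohB1.tensorPow H N) L) ∧ CohB1.IsAmple (CohB1.tensorMod (CohB1.tensorPow H N) L') := by
  constructor
  · intro hb
    obtain ⟨n₀, h⟩ := S4287_of_S4284.mp k X H hH P hP hb
    exact ⟨n₀, fun L L' => h n₀ le_rfl L L'⟩
  · rintro ⟨N, hN⟩
    obtain ⟨d, c, hc, hct⟩ := CalgB.ProjField.exists_closedImmersion_projSpace
      (X ↘ Spec (CommRingCat.of k)) ⟨H, hH⟩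
    exact S4287_of_core.mpr_of_core k X (bddPic_numCl k X (hnum d c hct))
      (exists_curves k X n hn hfin) H hH P hP N hN

end Groth.Agent.Pic13.H953.Final4287
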