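import Groth.Agent.Pic13.H953.UnifAmple
import Groth.Agent.Pic13.H953.AmpDeg
import Groth.Agent.Pic13.H969.Bridge

/-!
# S4287 from S4284

`mp` : a bounded family of invertible modules is uniformly ample after a twist (unconditional).
`mpr` : the converse, given finitely many curves on which bounded degrees imply boundedness (S4284).
-/

set_option autoImplicit false
universe u
open CategoryTheory CategoryTheory.Limits AlgebraicGeometry

namespace Groth.Agent.Pic13.H953.S4287_of_S4284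

open Groth.Agent.Grpsch.PicGrp Groth.Agent.Fdesc.LocGen Groth.Agent.Pic13.H138.BddPic
  Groth.Agent.Pic13.H953.AmplePic Groth.Agent.Pic13.H953.UnifAmple

theorem isInvertible_of_iso {X : Scheme.{u}} {L M : X.Modules} (e : L ≅ M) (hL : PicF.IsInvertible L) :
    PicF.IsInvertible M := by
  intro x
  obtain ⟨U, hx, ⟨i⟩⟩ := hL x
  exact ⟨U, hx, ⟨((Scheme.Modules.restrictFunctor U.ι).mapIso e).symm ≪≫ i⟩⟩

/-- An inverse of an invertible module is isomorphic to the dual. -/
theorem iso_dual {X : Scheme.{u}} {L L' : X.Modules} (hL : PicF.IsInvertible L)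
    (h : Nonempty (CohB1.tensorMod L L' ≅ Coh.structureModule X)) :
    Nonempty (L' ≅ dual L) := by
  obtain ⟨e⟩ := h
  exact ⟨(Ega2.Tens.lunit L').symm ≪≫ Ega2.Tens.mapTIso
    ((@asIso _ _ _ _ (ev L) (isIso_ev hL)).symm ≪≫ Ega2.Tens.swap _ _) (Iso.refl _) ≪≫
    Ega2.Tens.assoc _ _ _ ≪≫ Ega2.Tens.mapTIso (Iso.refl _) e ≪≫ Ega2.Tens.runit _⟩

theorem isInvertible_inverse {X : Scheme.{u}} {L L' : X.Modules} (hL : PicF.IsInvertible L)
    (h : Nonempty (CohB1.tensorMod L L' ≅ Coh.structureModule X)) : PicF.IsInvertible L' := by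
  obtain ⟨e⟩ := iso_dual hL h
  exact isInvertible_of_iso e.symm (isInvertible_dual hL)

theorem mk_inverse {X : Scheme.{u}} {L L' : X.Modules} (hL : PicF.IsInvertible L)
    (hL' : PicF.IsInvertible L')
    (h : Nonempty (CohB1.tensorMod L L' ≅ Coh.structureModule X)) : mk L' hL' = (mk L hL)⁻¹ := by
  obtain ⟨e⟩ := iso_dual hL h
  rw [inv_mk]
  exact mk_congr e

/-- A bounded family of invertible modules becomes ample after a fixed twist, and so does the family of inverses. -/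
theorem mp (k : Type u) [Field k] (X : Scheme.{u}) [X.Over (Spec (CommRingCat.of k))]
    [IsProper (X ↘ Spec (CommRingCat.of k))]
    (H : X.Modules) (hH : CohB1.IsAmple H) (P : X.Modules → Prop) (hP : ∀ L, P L → PicF.IsInvertible L)
    (hb : Pic13.IsBounded k X P) : ∃ n₀ : ℕ, ∀ N, n₀ ≤ N → ∀ L L' : X.Modules, P L →
      Nonempty (CohB1.tensorMod L L' ≅ Coh.structureModule X) →
      CohB1.IsAmple (CohB1.tensorMod (CohB1.tensorPow H N) L) ∧
        CohB1.IsAmple (CohB1.tensorMod (CohB1.tensorPow H N) L') := by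
  have hc : CompactSpace X := QuasiCompact.compactSpace_of_compactSpace (X ↘ Spec (CommRingCat.of k))
  have hs : X.IsSeparated := by
    constructor
    have : terminal.from X = (X ↘ Spec (CommRingCat.of k)) ≫ terminal.from _ :=
      Subsingleton.elim _ _
    rw [this]
    infer_instance
  have hB := Groth.Agent.Pic13.H969.Bridge.bridge k X P hb
  have hA : IsAmp (mk H hH.1) := (isAmp_mk hH.1).mpr hH
  obtain ⟨n₁, h₁⟩ := exists_uniform hB hA
  obtain ⟨n₂, h₂⟩ := exists_uniform hB.inv hA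
  refine ⟨max n₁ n₂, fun N hN L L' hL hLL' => ?_⟩
  have hLi := hP L hL
  have hLi' := isInvertible_inverse hLi hLL'
  constructor
  · have := h₁ N ((le_max_left _ _).trans hN) (mk L hLi) ⟨L, hLi, hL, rfl⟩
    rwa [← mk_tensorPow, isAmp_mk_tensorMod] at this
  · have := h₂ N ((le_max_right _ _).trans hN) (mk L' hLi') ⟨mk L hLi, ⟨L, hLi, hL, rfl⟩, by
      rw [mk_inverse hLi hLi' hLL']⟩
    rwa [← mk_tensorPow, isAmp_mk_tensorMod] at this

/-- The converse, given the curves of S4284. -/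
theorem mpr (k : Type u) [Field k] (X : Scheme.{u}) [X.Over (Spec (CommRingCat.of k))]
    [IsProper (X ↘ Spec (CommRingCat.of k))]
    (H : X.Modules) (hH : CohB1.IsAmple H) (P : X.Modules → Prop) (hP : ∀ L, P L → PicF.IsInvertible L)
    (h4284 : ∃ (p : ℕ) (Y : Fin p → Scheme.{u}) (ι : ∀ j, Y j ⟶ X),
      (∀ j, IsClosedImmersion (ι j) ∧ IsIntegral (Y j) ∧ topologicalKrullDim (Y j) = 1) ∧
      ∀ P : X.Modules → Prop, (∀ L, P L → PicF.IsInvertible L) →
        (Pic13.IsBounded k X P ↔ ∃ B : ℤ, ∀ L, P L → ∀ j,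
          |Pic13.curveDeg k (ι j ≫ (X ↘ Spec (CommRingCat.of k))) ((Scheme.Modules.pullback (ι j)).obj L)| ≤ B))
    (N : ℕ) (hN : ∀ L L' : X.Modules, P L → Nonempty (CohB1.tensorMod L L' ≅ Coh.structureModule X) →
      CohB1.IsAmple (CohB1.tensorMod (CohB1.tensorPow H N) L) ∧ CohB1.IsAmple (CohB1.tensorMod (CohB1.tensorPow H N) L')) :
    Pic13.IsBounded k X P := by
  obtain ⟨p, Y, ι, hY, h⟩ := h4284
  rw [h P hP]
  have hd : ∀ j, ∀ L, P L →
      |Pic13.curveDeg k (ι j ≫ (X ↘ Spec (CommRingCat.of k))) ((Scheme.Modules.pullback (ι j)).obj L)| ≤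
        N * Pic13.curveDeg k (ι j ≫ (X ↘ Spec (CommRingCat.of k))) ((Scheme.Modules.pullback (ι j)).obj H) := by
    intro j L hL
    obtain ⟨h1, h2, h3⟩ := hY j
    have hLi := hP L hL
    obtain ⟨L', hL', e⟩ := exists_inverse hLi
    obtain ⟨a1, a2⟩ := hN L L' hL e
    rw [← isAmp_mk_tensorMod (isInvertible_tensorPow hH.1 N) hLi, mk_tensorPow hH.1] at a1
    rw [← isAmp_mk_tensorMod (isInvertible_tensorPow hH.1 N) hL', mk_tensorPow hH.1,
      mk_inverse hLi hL' e] at a2
    exact AmpDeg.abs_curveDeg_le k X (ι j) h3 hH.1 hLi a1 a2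
  refine ⟨∑ j : Fin p, |(N : ℤ) * Pic13.curveDeg k (ι j ≫ (X ↘ Spec (CommRingCat.of k)))
    ((Scheme.Modules.pullback (ι j)).obj H)|, fun L hL j => ?_⟩
  refine ((hd j L hL).trans (le_abs_self _)).trans ?_
  exact Finset.single_le_sum (f := fun j => |(N : ℤ) * Pic13.curveDeg k (ι j ≫ (X ↘ Spec (CommRingCat.of k)))
    ((Scheme.Modules.pullback (ι j)).obj H)|) (fun _ _ => abs_nonneg _) (Finset.mem_univ j)

end Groth.Agent.Pic13.H953.S4287_of_S4284
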