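import Groth.Agent.Pic13.H953.UnifAmple
import Groth.Agent.Pic13.H953.S4287_of_S4284
import Groth.Agent.Pic13.H945.DegAmple

/-!
# S4280 from boundedness of the numerically trivial classes

If the numerically trivial classes on a proper `X` form a bounded set (`BddPic k X (num0 k X)`) and `h` is an ample
class then `h * a` is ample for every numerically trivial class `a`.
-/

set_option autoImplicit false
universe u
open CategoryTheory CategoryTheory.Limits AlgebraicGeometry

namespace Groth.Agent.Pic13.H953.S4280_of_bdd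

open Groth.Agent.Grpsch.PicGrp Groth.Agent.Fdesc.LocGen Groth.Agent.Pic13.H138.BddPic
  Groth.Agent.Pic13.H953.AmplePic Groth.Agent.Pic13.H953.UnifAmple Groth.Agent.Pic13.H945.DegAmple

/-- Ampleness of a class can be tested on a positive power. -/
theorem isAmp_of_pow {X : Scheme.{u}} [CompactSpace X] [X.IsSeparated] {a : Pic X} {n : ℕ} (hn : 0 < n)
    (h : IsAmp (a ^ n)) : IsAmp a := by
  induction a using ind with | _ L hL => ?_
  rw [← mk_tensorPow hL, isAmp_mk] at h
  rw [isAmp_mk]
  exact (Groth.Agent.S2327.result X L hL n hn).mpr h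

/-- Ample times a member of a bounded subgroup is ample. -/
theorem isAmp_mul_of_bdd (k : Type u) [Field k] {X : Scheme.{u}} [X.Over (Spec (CommRingCat.of k))]
    [CompactSpace X] [X.IsSeparated] {N : Subgroup (Pic X)} (hN : BddPic k X (N : Set (Pic X)))
    {h : Pic X} (hh : IsAmp h) {a : Pic X} (ha : a ∈ N) : IsAmp (h * a) := by
  obtain ⟨n₀, h₀⟩ := exists_uniform hN hh
  have h1 := h₀ (n₀ + 1) (Nat.le_succ _) (a ^ (n₀ + 1)) (N.pow_mem ha _)
  rw [← mul_pow] at h1
  exact isAmp_of_pow (Nat.succ_pos _) h1

/-- S4280, for a numerically trivial `L`, from boundedness. -/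
theorem twists_ample (k : Type u) [Field k] [IsAlgClosed k] (X : Scheme.{u})
    [X.Over (Spec (CommRingCat.of k))] [IsProper (X ↘ Spec (CommRingCat.of k))]
    {N : Subgroup (Pic X)} (hN : BddPic k X (N : Set (Pic X)))
    (H : X.Modules) (hH : CohB1.IsAmple H) (L L' : X.Modules) (hL : PicF.IsInvertible L)
    (hLL' : Nonempty (CohB1.tensorMod L L' ≅ Coh.structureModule X)) (hn : mk L hL ∈ N) (m : ℕ) :
    CohB1.IsAmple (CohB1.tensorMod (CohB1.tensorPow L m) H) ∧
      CohB1.IsAmple (CohB1.tensorMod (CohB1.tensorPow L' m) H) := by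
  have hc : CompactSpace X := QuasiCompact.compactSpace_of_compactSpace (X ↘ Spec (CommRingCat.of k))
  have hs : X.IsSeparated := by
    constructor
    have : terminal.from X = (X ↘ Spec (CommRingCat.of k)) ≫ terminal.from _ :=
      Subsingleton.elim _ _
    rw [this]
    infer_instance
  have hL' := S4287_of_S4284.isInvertible_inverse hL hLL'
  have hA : IsAmp (mk H hH.1) := (isAmp_mk hH.1).mpr hH
  constructor
  · have h1 := isAmp_mul_of_bdd k hN hA (N.pow_mem hn m)
    rw [mul_comm, ← mk_tensorPow hL, isAmp_mk_tensorMod] at h1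
    exact h1
  · have h1 := isAmp_mul_of_bdd k hN hA (N.pow_mem (N.inv_mem hn) m)
    rw [← S4287_of_S4284.mk_inverse hL hL' hLL', mul_comm, ← mk_tensorPow hL', isAmp_mk_tensorMod] at h1
    exact h1

end Groth.Agent.Pic13.H953.S4280_of_bdd
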