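import Groth.Agent.Pic13.H953.S4287_of_S4284
import Groth.Agent.Pic13.H950.Asm

/-!
# S4287 from the boundedness of numerically trivial classes and finitely many detecting curves

`mpr_of_core` : the hard direction of `S4287` for a fixed projective `X`, from
`BddPic k X (numCl k X)` and finitely many curves detecting numerical triviality.
No statement about algebraic equivalence is needed.
-/

set_option autoImplicit false
universe u
open CategoryTheory CategoryTheory.Limits AlgebraicGeometry

namespace Groth.Agent.Pic13.H953.S4287_of_core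

open Groth.Agent.Grpsch.PicGrp Groth.Agent.Fdesc.LocGen Groth.Agent.Pic13.H138.BddPic
  Groth.Agent.Pic13.H953.AmplePic Groth.Agent.Pic13.H953.S4287_of_S4284
  Groth.Agent.Pic13.H950.NumCl Groth.Agent.Pic13.H950.Asm

theorem mpr_of_core (k : Type u) [Field k] (X : Scheme.{u}) [X.Over (Spec (CommRingCat.of k))]
    [IsProper (X ↘ Spec (CommRingCat.of k))]
    (hB : BddPic k X (numCl k X : Set (Pic X)))
    (hcur : ∃ (p : ℕ) (C : Fin p → Curve X), ∀ a : Pic X, (∀ j, dgc k X (C j) a = 0) → a ∈ numCl k X)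
    (H : X.Modules) (hH : CohB1.IsAmple H) (P : X.Modules → Prop) (hP : ∀ L, P L → PicF.IsInvertible L)
    (N : ℕ) (hN : ∀ L L' : X.Modules, P L → Nonempty (CohB1.tensorMod L L' ≅ Coh.structureModule X) →
      CohB1.IsAmple (CohB1.tensorMod (CohB1.tensorPow H N) L) ∧ CohB1.IsAmple (CohB1.tensorMod (CohB1.tensorPow H N) L')) :
    Pic13.IsBounded k X P := by
  obtain ⟨p, C, hC⟩ := hcur
  have hd : ∀ (j : Fin p) (L : X.Modules) (hL : P L),
      |dgc k X (C j) (mk L (hP L hL))| ≤ N * dgc k X (C j) (mk H hH.1) := by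
    intro j L hL
    have hLi := hP L hL
    obtain ⟨L', hL', e⟩ := exists_inverse hLi
    obtain ⟨a1, a2⟩ := hN L L' hL e
    rw [← isAmp_mk_tensorMod (isInvertible_tensorPow hH.1 N) hLi, mk_tensorPow hH.1] at a1
    rw [← isAmp_mk_tensorMod (isInvertible_tensorPow hH.1 N) hL', mk_tensorPow hH.1,
      mk_inverse hLi hL' e] at a2
    rw [dgc_mk, dgc_mk]
    exact AmpDeg.abs_curveDeg_le k X (C j).ι (C j).dim hH.1 hLi a1 a2
  have hA : BddPic k X {a | ∃ (L : X.Modules) (hL : PicF.IsInvertible L), P L ∧ a = mk L hL} := by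
    refine bddPic_of_bounded_degrees k X hB C hC _
      (∑ j : Fin p, |(N : ℤ) * dgc k X (C j) (mk H hH.1)|) ?_
    rintro _ ⟨L, hL, h, rfl⟩ j
    refine ((hd j L h).trans (le_abs_self _)).trans ?_
    exact Finset.single_le_sum (f := fun j => |(N : ℤ) * dgc k X (C j) (mk H hH.1)|)
      (fun _ _ => abs_nonneg _) (Finset.mem_univ j)
  exact H504.Descent.isBounded_of_bddPic hP hA (fun L hL h => ⟨L, hL, h, rfl⟩)

end Groth.Agent.Pic13.H953.S4287_of_core
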