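import Groth.Agent.Pic13.H953.AmplePic
import Groth.Agent.Pic13.H138.BddPic

/-!
# Uniform ampleness in a bounded family of classes of invertible modules

`exists_uniform` : `X` over `k` quasi-compact and separated, `h` an ample class, `A` a bounded set of classes: then
`h ^ n * a` is ample for all `a ∈ A` and all `n ≥ n₀`.
-/

set_option autoImplicit false
universe u

open CategoryTheory CategoryTheory.Limits AlgebraicGeometry

namespace Groth.Agent.Pic13.H953.UnifAmple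

open Groth.Agent.Grpsch.PicGrp Groth.Agent.Pic13.H138.Slice Groth.Agent.Pic13.H138.BddPic
  Groth.Agent.Pic13.H953.AmplePic

variable (k : Type u) [Field k] (X : Scheme.{u}) [X.Over (Spec (CommRingCat.of k))]

local notation "Sk" => Spec (CommRingCat.of k)

variable {k X}

theorem exists_uniform [CompactSpace X] [X.IsSeparated] {A : Set (Pic X)} (hA : BddPic k X A)
    {h : Pic X} (hh : IsAmp h) : ∃ n₀ : ℕ, ∀ n, n₀ ≤ n → ∀ a ∈ A, IsAmp (h ^ n * a) := by
  obtain ⟨T, q, h1, h2, c, hc⟩ := hA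
  have hT : CompactSpace T := QuasiCompact.compactSpace_of_compactSpace q
  let 𝒰 := T.affineCover.finiteSubcover
  have hfin : Finite 𝒰.I₀ := inferInstanceAs (Finite T.affineCover.finiteSubcover.I₀)
  have haff : ∀ i, IsAffine (𝒰.X i) := fun i => by
    dsimp [𝒰]; infer_instance
  have key : ∀ i : 𝒰.I₀, ∃ n₀ : ℕ, ∀ n, n₀ ≤ n → ∀ (t : Sk ⟶ 𝒰.X i) (ht : t ≫ (𝒰.f i ≫ q) = 𝟙 _),
      IsAmp (h ^ n * fibCl k X (𝒰.f i ≫ q) t ht (pull (bcT k X q (𝒰.f i ≫ q) (𝒰.f i) rfl) c)) :=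
    fun i => exists_uniform_of_isAffine k X (𝒰.f i ≫ q) _ hh
  choose n₀ hn₀ using key
  have := Fintype.ofFinite 𝒰.I₀
  refine ⟨Finset.univ.sup n₀, fun n hn a ha => ?_⟩
  obtain ⟨t, ht, rfl⟩ := hc a ha
  obtain ⟨i, y, hy⟩ := 𝒰.exists_eq (t (IsLocalRing.closedPoint k))
  have hr : Set.range t ⊆ Set.range (𝒰.f i) := by
    rintro _ ⟨p, rfl⟩
    rw [show p = IsLocalRing.closedPoint k from Subsingleton.elim (α := PrimeSpectrum k) _ _]
    exact ⟨y, hy⟩
  have hfac := IsOpenImmersion.lift_fac (𝒰.f i) t hr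
  have ht' : IsOpenImmersion.lift (𝒰.f i) t hr ≫ 𝒰.f i ≫ q = 𝟙 _ := by
    rw [← Category.assoc, hfac, ht]
  have := hn₀ i n ((Finset.le_sup (f := n₀) (Finset.mem_univ i)).trans hn) _ ht'
  rwa [fibCl_pull_bcT, fibCl_congr k X q _ hfac] at this

end Groth.Agent.Pic13.H953.UnifAmple
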